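import Cfsg.Agent.Spor.M11a.S.D0

set_option autoImplicit false
set_option maxRecDepth 100000000
set_option Elab.async false

namespace Cfsg.Agent.Spor.M11a.S

theorem gr4 : sub M3 (U.growI W2 [0, 1, 2, 0] (Nat.shiftLeft 1 9)) = true := by decide +kernel

theorem sd6 : U.sends [3, 3, 3, 1, 3] 0 9 = true := by decide +kernel

theorem gr7 : sub (ones 165) (U.growI ([3, 3, 3, 1, 3] :: W2) [0, 1, 2, 3, 1, 0, 1, 2, 3, 1, 0, 1, 2, 3, 1, 0, 1, 2] (Nat.shiftLeft 1 0)) = true := by decide +kernel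

theorem gr10 : sub M9 (U.growI W2 [0, 1, 2, 1, 0] (Nat.shiftLeft 1 21)) = true := by decide +kernel

theorem sd12 : U.sends [3, 1, 3, 3, 3, 1, 3] 0 21 = true := by decide +kernel

theorem gr13 : sub (ones 165) (U.growI ([3, 1, 3, 3, 3, 1, 3] :: W2) [0, 1, 2, 3, 2, 1, 0, 0, 1, 2, 3, 2, 1] (Nat.shiftLeft 1 0)) = true := by decide +kernel

theorem gr16 : sub M15 (U.growI W2 [0, 1, 2, 1, 0, 1, 2] (Nat.shiftLeft 1 1)) = true := by decide +kernel

theorem sd18 : U.sends [3] 0 1 = true := by decide +kernel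

theorem gr19 : sub (ones 165) (U.growI ([3] :: W2) [0, 1, 2, 3, 2, 1, 0, 0, 1, 2, 3, 2, 1] (Nat.shiftLeft 1 0)) = true := by decide +kernel

theorem gr22 : sub M21 (U.growI W2 [0, 1, 2, 1, 0, 1, 2] (Nat.shiftLeft 1 2)) = true := by decide +kernel

theorem sd24 : U.sends [3, 3, 3] 0 2 = true := by decide +kernel

theorem gr25 : sub (ones 165) (U.growI ([3, 3, 3] :: W2) [0, 1, 2, 3, 2, 1, 0, 0, 1, 2, 3, 2, 1] (Nat.shiftLeft 1 0)) = true := by decide +kernel

theorem gr28 : sub M27 (U.growI W2 [0, 1, 2, 1, 0, 1] (Nat.shiftLeft 1 4)) = true := by decide +kernel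

theorem sd30 : U.sends [3, 3] 0 4 = true := by decide +kernel

theorem gr31 : sub (ones 165) (U.growI ([3, 3] :: W2) [0, 1, 2, 3, 2, 1, 0, 1, 2, 3, 2, 1, 0, 1, 3, 2] (Nat.shiftLeft 1 0)) = true := by decide +kernel

theorem gr34 : sub M33 (U.growI W2 [0, 1, 2, 1, 0, 1, 2] (Nat.shiftLeft 1 6)) = true := by decide +kernel

theorem sd36 : U.sends [3, 1, 3] 0 6 = true := by decide +kernel

theorem gr37 : sub (ones 165) (U.growI ([3, 1, 3] :: W2) [0, 1, 2, 3, 2, 1, 0, 0, 1, 2, 3, 2, 1] (Nat.shiftLeft 1 0)) = true := by decide +kernel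

theorem gr40 : sub M39 (U.growI W2 [0, 1, 2, 1, 0, 1, 2, 1] (Nat.shiftLeft 1 18)) = true := by decide +kernel

theorem sd42 : U.sends [3, 1, 3, 1, 3] 0 18 = true := by decide +kernel

theorem gr43 : sub (ones 165) (U.growI ([3, 1, 3, 1, 3] :: W2) [0, 1, 2, 3, 2, 1, 0, 0, 1, 2, 3, 2, 1] (Nat.shiftLeft 1 0)) = true := by decide +kernel

theorem ff45 : U.fixFrom 8 165 1 = true := by decide +kernel

theorem ff46 : U.fixFrom 8 165 3 = true := by decide +kernel

end Cfsg.Agent.Spor.M11a.S
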