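import Cfsg.Agent.Spor.Prim
import Cfsg.Agent.Spor.M11a.Main
import Cfsg.Agent.Spor.M11a.S.C0

set_option autoImplicit false
set_option maxRecDepth 100000000
set_option Elab.async false

namespace Cfsg.Agent.Spor.M11a.S

theorem hU : U.Ok 8 := U.ok_of 8 (show AllP (fun n => Net.okb 8 n = true) [n0, n1, n2, n3, n4] from AllP.cons ok0 (AllP.cons ok1 (AllP.cons ok2 (AllP.cons ok3 (AllP.cons ok4 (AllP.nil))))))

theorem hfP : ∀ j < 2, U.fP [1, 3] j = fP j := by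
  intro j hj
  interval_cases j <;> rfl
theorem eG : gsub 2 fP = U.lsub W1 := (gsub_congr hfP).symm.trans (lsub_eq_gsub U [1, 3])
theorem upz1 : ev (atm 2 fP) [0] = U.τ 1 := pz1
theorem upz3 : ev (atm 2 fP) [2] = U.τ 3 := pz2
theorem upz5 : ev (atm 2 fP) [3, 3, 0, 3, 3, 0, 2, 2] = U.τ 5 := pz4
theorem upz7 : ev (atm 2 fP) [3, 0, 2, 0, 3, 0, 2, 0, 3, 0, 2] = U.τ 7 := pz6
theorem upz9 : ev (atm 2 fP) [2, 0, 3, 0, 2, 0, 3, 0, 2, 0, 3] = U.τ 9 := pz8
theorem eH : wsub 2 fP BW = U.lsub W2 :=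
  lsub_eq_of_all₂ (show List.Forall₂ _ [[3, 3, 0, 3, 3, 0, 2, 2], [3, 0, 2, 0, 3, 0, 2, 0, 3, 0, 2], [2, 0, 3, 0, 2, 0, 3, 0, 2, 0, 3]] [[5], [7], [9]] from List.Forall₂.cons (upz5.trans (one_mul _).symm) (List.Forall₂.cons (upz7.trans (one_mul _).symm) (List.Forall₂.cons (upz9.trans (one_mul _).symm) (List.Forall₂.nil))))
theorem reach5 : Reach (U.lsub W2) 9 M3 := (Reach.grow hU (Reach.base _ 9) gr4)
theorem reach8 : Reach (U.lsub ([3, 3, 3, 1, 3] :: W2)) 0 (ones 165) := (Reach.grow hU (Reach.base _ 0) gr7)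
theorem reach11 : Reach (U.lsub W2) 21 M9 := (Reach.grow hU (Reach.base _ 21) gr10)
theorem reach14 : Reach (U.lsub ([3, 1, 3, 3, 3, 1, 3] :: W2)) 0 (ones 165) := (Reach.grow hU (Reach.base _ 0) gr13)
theorem reach17 : Reach (U.lsub W2) 1 M15 := (Reach.grow hU (Reach.base _ 1) gr16)
theorem reach20 : Reach (U.lsub ([3] :: W2)) 0 (ones 165) := (Reach.grow hU (Reach.base _ 0) gr19)
theorem reach23 : Reach (U.lsub W2) 2 M21 := (Reach.grow hU (Reach.base _ 2) gr22)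
theorem reach26 : Reach (U.lsub ([3, 3, 3] :: W2)) 0 (ones 165) := (Reach.grow hU (Reach.base _ 0) gr25)
theorem reach29 : Reach (U.lsub W2) 4 M27 := (Reach.grow hU (Reach.base _ 4) gr28)
theorem reach32 : Reach (U.lsub ([3, 3] :: W2)) 0 (ones 165) := (Reach.grow hU (Reach.base _ 0) gr31)
theorem reach35 : Reach (U.lsub W2) 6 M33 := (Reach.grow hU (Reach.base _ 6) gr34)
theorem reach38 : Reach (U.lsub ([3, 1, 3] :: W2)) 0 (ones 165) := (Reach.grow hU (Reach.base _ 0) gr37)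
theorem reach41 : Reach (U.lsub W2) 18 M39 := (Reach.grow hU (Reach.base _ 18) gr40)
theorem reach44 : Reach (U.lsub ([3, 1, 3, 1, 3] :: W2)) 0 (ones 165) := (Reach.grow hU (Reach.base _ 0) gr43)
noncomputable def X : List SubO := [([3, 3, 3, 1, 3], 9, M3), ([3, 1, 3, 3, 3, 1, 3], 21, M9), ([3], 1, M15), ([3, 3, 3], 2, M21), ([3, 3], 4, M27), ([3, 1, 3], 6, M33), ([3, 1, 3, 1, 3], 18, M39)]
theorem hX : AllP (SubOk U W2 W1) X :=
  show AllP (SubOk U W2 W1) [([3, 3, 3, 1, 3], 9, M3), ([3, 1, 3, 3, 3, 1, 3], 21, M9), ([3], 1, M15), ([3, 3, 3], 2, M21), ([3, 3], 4, M27), ([3, 1, 3], 6, M33), ([3, 1, 3, 1, 3], 18, M39)] from AllP.cons ⟨U.mem_letters (by decide), (hU.sends sd6), reach5⟩ (AllP.cons ⟨U.mem_letters (by decide), (hU.sends sd12), reach11⟩ (AllP.cons ⟨U.mem_letters (by decide), (hU.sends sd18), reach17⟩ (AllP.cons ⟨U.mem_letters (by decide), (hU.sends sd24), reach23⟩ (AllP.cons ⟨U.mem_letters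 (by decide), (hU.sends sd30), reach29⟩ (AllP.cons ⟨U.mem_letters (by decide), (hU.sends sd36), reach35⟩ (AllP.cons ⟨U.mem_letters (by decide), (hU.sends sd42), reach41⟩ (AllP.nil)))))))
theorem hXc : subCov 165 X = true := by decide +kernel
theorem hY : AllP (fun x : SubO => Reach (U.lsub (x.1 :: W2)) 0 (ones 165)) X :=
  show AllP (fun x : SubO => Reach (U.lsub (x.1 :: W2)) 0 (ones 165)) [([3, 3, 3, 1, 3], 9, M3), ([3, 1, 3, 3, 3, 1, 3], 21, M9), ([3], 1, M15), ([3, 3, 3], 2, M21), ([3, 3], 4, M27), ([3, 1, 3], 6, M33), ([3, 1, 3, 1, 3], 18, M39)] from AllP.cons reach8 (AllP.cons reach14 (AllP.cons reach20 (AllP.cons reach26 (AllP.cons reach32 (AllP.cons reach38 (AllP.cons reach44 (AllP.nil)))))))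
theorem hfix : gsub 2 fP ≤ FixFrom 165 := (gsub_congr hfP).symm.le.trans (hU.gsub_fix (gs := [1, 3]) (AllP.cons ff45 (AllP.cons ff46 (AllP.nil))))

end Cfsg.Agent.Spor.M11a.S
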