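import Cfsg.Agent.Spor.Chk2
import Cfsg.Agent.Spor.M11a.D0

set_option autoImplicit false
set_option maxRecDepth 100000000
set_option Elab.async false
noncomputable section

namespace Cfsg.Agent.Spor.M11a.S

def W1 : List (List Nat) := [[1], [3]]

def W2 : List (List Nat) := [[5], [7], [9]]

def M3 : Nat := nat_lit 0x10000400040006000100000008200

def M9 : Nat := nat_lit 0x8d441000000000000100000001001000002200000

def M15 : Nat := nat_lit 0x80000ca000222800802021048024400411100a

def M21 : Nat := nat_lit 0x2a0400f28c0000008000a0114800800804024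

def M27 : Nat := nat_lit 0xc0000000101a0170e00820002a009002190

def M33 : Nat := nat_lit 0x1200084003408000c0074081d00020000000020c40

def M39 : Nat := nat_lit 0x52b3413b010561c1608201004084a4917f04c0000

def U : Tab := ⟨[n0, n1, n2, n3, n4], [⟨0, false, 0, 0, []⟩, ⟨0, false, 0, 0, []⟩, ⟨0, true, 0, 0, []⟩, ⟨1, false, 0, 0, []⟩, ⟨1, true, 0, 0, []⟩, ⟨2, false, 0, 0, []⟩, ⟨2, true, 0, 0, []⟩, ⟨3, false, 0, 0, []⟩, ⟨3, true, 0, 0, []⟩, ⟨4, false, 0, 0, []⟩, ⟨4, true, 0, 0, []⟩]⟩

end Cfsg.Agent.Spor.M11a.S
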